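import Mathlib
import Cfsg.Agent.Lib.Golay.Mask
import Cfsg.Agent.Lib.Comput.Net

/-!
Small invariant subsets of the affine space `(ZMod 3) ^ 4` under the group generated by two isometries of the
form `x₀² + x₁² + x₂² - x₃²`.
-/

set_option autoImplicit false
set_option Elab.async false
set_option maxRecDepth 100000

namespace CfsgLib.F24T

open CfsgLib.Golay
open CfsgLib.Comput (force force_eq)

abbrev K4 : Type := Fin 4 → ZMod 3

def nr4 (a b c d : ZMod 3) : ZMod 3 := a * a + b * b + c * c - d * d

def nr (k : K4) : ZMod 3 := nr4 (k 0) (k 1) (k 2) (k 3)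

def m1 (k : K4) : K4 := ![2 * k 0, 2 * k 1, k 2, k 3]

def m2 (k : K4) : K4 := ![k 0 + k 1 + k 3, k 2, 2 * k 0 + 2 * k 1 + k 3, 2 * k 0 + k 1]

def fx (k : K4) : ZMod 3 := k 0 + k 1 + k 2

theorem forall_K4 {P : K4 → Prop} (h : ∀ a b c d, P ![a, b, c, d]) (k : K4) : P k := by
  convert h (k 0) (k 1) (k 2) (k 3); ext i; fin_cases i <;> rfl

theorem m1_sub (k l : K4) : m1 (k - l) = m1 k - m1 l := by
  ext i; fin_cases i <;> simp [m1] <;> ring

theorem m2_sub (k l : K4) : m2 (k - l) = m2 k - m2 l := by
  ext i; fin_cases i <;> simp [m2] <;> ring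

def ck4 (a b c d : ZMod 3) : ℕ := a.val + 3 * b.val + 9 * c.val + 27 * d.val

def ck (k : K4) : ℕ := ck4 (k 0) (k 1) (k 2) (k 3)

theorem ck_lt (k : K4) : ck k < 81 := by
  have := (k 0).val_lt; have := (k 1).val_lt; have := (k 2).val_lt; have := (k 3).val_lt
  unfold ck ck4; omega

def rk (k : K4) : ℕ := 0x636477434262513445253512766244533435637256451265536675353424546145304345165704100 / 16 ^ ck k % 16

def rep (ν : ZMod 3) : K4 := ![1, if ν = 1 then 0 else 1, if ν = 0 then 1 else 0, 0]

theorem m_facts (k : K4) : m1 (m1 k) = k ∧ m2 (m2 (m2 (m2 k))) = k ∧ nr (m1 k) = nr k ∧ nr (m2 k) = nr k ∧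
    (k = 0 ∨ k = rep (nr k) ∨ (m1 k ≠ 0 ∧ rk (m1 k) < rk k) ∨ (m2 k ≠ 0 ∧ rk (m2 k) < rk k)) := by
  induction k using forall_K4 with | h a b c d => revert a b c d; decide +kernel

theorem closed_class {D : K4 → Prop} (h1 : ∀ k, D k → D (m1 k)) (h2 : ∀ k, D k → D (m2 k)) {k : K4}
    (hk : k ≠ 0) : D k ↔ D (rep (nr k)) := by
  induction hn : rk k using Nat.strong_induction_on generalizing k with
  | _ n ih =>
    obtain ⟨e1, e2, e3, e4, h | h | h | h⟩ := m_facts k
    · exact absurd h hk
    · rw [← h]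
    · rw [← e3, ← ih _ (hn ▸ h.2) h.1 rfl]; exact ⟨h1 _, fun e => e1 ▸ h1 _ e⟩
    · rw [← e4, ← ih _ (hn ▸ h.2) h.1 rfl]; exact ⟨h2 _, fun e => e2 ▸ h2 _ (h2 _ (h2 _ e))⟩

def cls (ν : ZMod 3) : Finset K4 := Finset.univ.filter fun d => d ≠ 0 ∧ nr d = ν

theorem card_cls : ∀ ν, (cls ν).card = if ν = 0 then 20 else 30 := by decide +kernel

theorem cls_subset {S : Finset K4} {D : K4 → Prop} (h1 : ∀ k, D k → D (m1 k)) (h2 : ∀ k, D k → D (m2 k))
    (hS : ∀ k, k ≠ 0 → D k → k ∈ S) {k : K4} (hk : k ≠ 0) (h : D k) : cls (nr k) ⊆ S := fun d hd => by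
  obtain ⟨h0, e⟩ := (Finset.mem_filter.mp hd).2
  exact hS d h0 ((closed_class h1 h2 h0).mpr (e ▸ (closed_class h1 h2 hk).mp h))

theorem core0 {S : Finset K4} (h : S.card ≤ 12) (h1 : ∀ k ∈ S, m1 k ∈ S) (h2 : ∀ k ∈ S, m2 k ∈ S) {k : K4}
    (hk : k ∈ S) : k = 0 := by
  by_contra h0
  have := Finset.card_le_card (cls_subset h1 h2 (fun _ _ h => h) h0 hk)
  rw [card_cls] at this; split_ifs at this <;> omega

/-- adjacency tables -/
def adj (ν : ZMod 3) : ℕ := if ν = 0 then 0xd86dc900803920100000b45b5240202a480400006c36c490081892010000c361c7040208e0804000a2d155410082a820100061b0c7104020e20804001b0d8918100923020100168b425404024a8080400d86c09c010093802010d80037007240200e4800b4002d405490080a92006c001b10312402062480c30030c411c100823820a28028a105504020aa086180186041c4100838821b0006c01246040248c0968005a00495010092a02d8003600127004024e0086c360080401c900803905a2d00201015240202a4361b0008040c4900818961b0c00201047040208e5168a00080415410082ab0d8600020107104020e2d86c0000804918100923b45a000020125404024aec36000008049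c0100939c90080000361b72402015240200002d16d490080c490080001b0db12402047040200030d871c100815410080028b45550402071040200186c31c410089181008006c3624604022540402005a2d095010089c010080361b02700403007240036000dc01c90040549002d000b501524010312401b0006c40c4900411c1030c00c3104704010550428a00a28415410041c411860061810710401246046c001b004918100495015a00168012540401270076000d80049c0180401c81b0d8020100722010152168b40080405488040c48d86c002010312201047186c300080411c080415545a28002010550201071c36180008041c4080491b61b00002012460201256d168000080495008049db0d800002012739201007240200000d86ea480405490080000b45b89201031240200006c368e080411c1008000c361aa82010550402000a2d14e208041c410080061b0d2302012460402001b0d84a8080495010080168b41380201270040200d86c200e480401c9000d8003680a92010152400b4002d206248040c49006c001b08238201047040c30030c20aa080415410a28028a083882010710461801860248c080491811b0006c0092a02012540568005a0024e008049c01d800361008039201007206c360040202a480405485a2d0010081892010312361b00040208e080411c61b0c0010082a82010555168a0004020e208041c70d860001009230201246d86c00004024a8080495b45a00001009380201276c36000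
  else if ν = 1 then 0xe48040036e47206dc8e4a9201002da95485b52a962480401b6271236c4e2638201030e391c61c7238aa080428aaa5551554aa388201186389c70c7138c8c08046c48e46d891c8d2a02015a12a95b42552a4e00807604e276c09c4e8039200e40db91c81b72202a480a90b6a55216d488189206246d89c48db12208e08238c38e471871c082a820aaa2aa9554555020e20838e18e271c31c409230248db12391b6246024a8092b684aa56d09500938024ed81389db02740200e47239036e47206d0080a954aa42da95485a402062713891b627123610082391c8e30e391c6184020aa552aa8aaa555141008389c4e386389c70c040248e47236c48e46d8010092a954ada12a95b4004024e2713b604e276c036e47239201000db91c82da954aa480400b6a5521b6271389201006d89c4b0e391c8e08040c38e4728aaa552a82010a2aa95586389c4e20804618e2716c48e472302011b12391da12a954a80805684aa57604e271380201d81389ce40db9200e48039036e4a90b6a480a9202a42da96246d892062481891b62638c38e08238208e30e38aaa2aa820aa082aa8aaa38e18e20838820e38638c8db1230248c09236c48d2b684a8092a024ada12a4ed8138024e0093b604e72390370080391c8e40dd4aa42d40202a552a90b713891b1008189c4e246d1c8e30c40208e47238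c3552aa8a10082a954aaa29c4e38604020e27138e1a47236c010092391c8db0954ada004024aa552b682713b6001009389c4ed806dc8e40db91c8e4804005b52a90b6a552a92010036c4e246d89c4e24804061c7238c38e47238201051554aaa2aa954aa080430c7138e18e2713882010d891c8db12391c8c0804b42552b684aa552a02016c09c4ed81389c4e00805c81b7239036e480392015216d4aa42da9202a480c48db13891b624818920471871c8e30e38208e0815545552aa8aaa082a82071c31c4e38638820e20891b6247236c48c092302256d0954ada12a024a8089db02713b604e0093802e47206dc8e40dc0200e4a95485b52a90b50080a96271236c4e246c4020626391c61c7238c31008238aa5551554aaa284020aa389c70c7138e18100838c8e46d891c8db0040248d2a95b42552b68010092a4e276c09c4ed8004024e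
  else 0x1b72392001b0dc00361b16d4aa480168b5002d168db1389200d86c401b0d9871c8e08186c31030d8745552a82145a28428b45c31c4e208c36181186c3362472302361b0046c362d0954a80ad168015a2d1b02713803b0d800761b07206dc81b8006c37000dd485b5216a005a2d400b71236c48d880361b1006d1c61c71862061b0c40c3555155545085168a10a29c70c71c30230d860461a46d891b6008d86c011b095b4256d002b45a00568276c09db000ec36001d8391c81b0d86e001b0dc02a552168b45a80168b50189c48d86c36200d86c408e47186c36188186c3102a95545a2d142145a2840e271c361b0c08c3618112391b61b0d802361b0044aa56d168b400ad168011389db0d86c003b0d8006001b0d86dc8e48006c3680168b45b52a92005a2d200d86c36c4e2480361b08186c361c72382061b0c2145a2d1554aa085168a08c361b0c71388230d8602361b0d891c8c08d86c00ad168b42552a02b45a003b0d86c09c4e00ec3601b8006dc81b7206e001b16a005b5216d485a80168d88036c48db1236200d9862061c71871c618818745085155545555142145c30230c71c31c70c08c336008d891b6246d802362d002b4256d095b400ad1b000ec09db0276c003b00d86e00e47206c361b800b45a80a95485a2d16a006c362062712361b0d880c361882391c61b0d8620a2d1420aa555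168b450861b0c08389c70d86c3021b0d80248e46d86c3600968b40092a95b45a2d002d86c0024e276c361b000c00361b8006c361b72391002d16a005a2d16d4aa4401b0d880361b0db13891030d862061b0d871c8e0428b45085168b45552a81186c30230d86c31c4e2046c36008d86c3624723015a2d002b45a2d0954a80761b000ec361b02713837000d86e001b7206dc82d400b45a8016d485b521b1006c36200db1236c4b0c40c361881871c61c728a10a2d1421455551555860461b0c08c31c70c716c011b0d80236246d891da00568b400ad095b42576001d86c003b0276c09c1b0dc00361b80391c81b168b5002d16a02a552168d86c401b0d88189c48d986c31030d86208e4718745a28428b45082a95545c36181186c3020e271c3361b0046c360092391b62d168015a2d0024aa56d1b0d800761b0009389db0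

def nb (A d : ℕ) : ℕ := Nat.shiftRight A (Nat.mul 81 d)

theorem adj_aux : ∀ a b c d a' b' c' d' : ZMod 3, ck4 a b c d = ck4 a' b' c' d' ∨
    tb (nb (adj (nr4 (a - a') (b - b') (c - c') (d - d'))) (ck4 a' b' c' d')) (ck4 a b c d) = true := by
  decide +kernel

theorem ck_inj {k l : K4} (h : ck k = ck l) : k = l := by
  have := (k 0).val_lt; have := (k 1).val_lt; have := (k 2).val_lt; have := (k 3).val_lt
  have := (l 0).val_lt; have := (l 1).val_lt; have := (l 2).val_lt; have := (l 3).val_lt
  unfold ck ck4 at h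
  ext i; fin_cases i <;> apply ZMod.val_injective <;> simp <;> omega

theorem adj_ck {k l : K4} (h : k ≠ l) : (nb (adj (nr (k - l))) (ck l)).testBit (ck k) = true :=
  tb_eq _ _ ▸ (adj_aux _ _ _ _ _ _ _ _).resolve_left fun e => h (ck_inj e)

/-- loop over the neighbours in `m`, shrinking the mask -/
noncomputable def nxt (A m : ℕ) (f : ℕ → ℕ → Bool) : Bool :=
  allLT 81 fun a => or (not (tb m a)) (force (Nat.land m (nb A a)) (f a))

theorem of_nxt {A m : ℕ} {f : ℕ → ℕ → Bool} (h : nxt A m f = true) {k : K4} (hk : m.testBit (ck k) = true) :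
    f (ck k) (m &&& nb A (ck k)) = true := by
  have := of_allLT h (ck_lt k)
  rwa [tb_eq, hk, force_eq] at this

def gC (c : ℕ) : ℕ := (fun x => if x = 0 then 16 else x) ((c + c / 3 + c / 9) % 3)

theorem gC_ck (k : K4) : gC (ck k) = if fx k = 0 then 16 else (fx k).val := by
  induction k using forall_K4 with | h a b c d => revert a b c d; decide +kernel

theorem clique_zero : nxt (adj 0) (nb (adj 0) 0) (fun _ m => nxt (adj 0) m fun _ m => nxt (adj 0) m
    fun _ _ => false) = true := by decide +kernel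

theorem clique_six : ∀ ν, force (adj ν) (fun A => nxt A (nb A 0) fun a m => nxt A m fun b m =>
    nxt A m fun c m => nxt A m fun d m => nxt A m fun e _ => force (gC a + gC b + gC c + gC d + gC e)
      fun s => or (Nat.beq s 35) (Nat.beq s 38)) = true := by decide +kernel

theorem pattern : ∀ x1 x2 x3 x4 x5 : ZMod 3,
    (fun (g : ZMod 3 → ℕ) => g x1 + g x2 + g x3 + g x4 + g x5 = 35 ∨ g x1 + g x2 + g x3 + g x4 + g x5 = 38)
      (fun x => if x = 0 then 16 else x.val) → ∃ a c : Fin 6,
      (fun φ : Fin 6 → ZMod 3 => φ 0 ≠ φ 3 ∧ ∀ i, φ i = if i.val < 3 then φ 0 else φ 3)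
        fun i => ![0, x1, x2, x3, x4, x5] ((Equiv.swap 1 a * Equiv.swap 2 c) i) := by decide +kernel

theorem adj_fam {n : ℕ} {e : Fin (n + 1) → K4} (he : Function.Injective e) {ν : ZMod 3}
    (h : ∀ i j, i ≠ j → nr (e i - e j) = ν) :
    (∀ i, i ≠ 0 → (nb (adj ν) 0).testBit (ck (e i - e 0)) = true) ∧
      ∀ i j, i ≠ j → (nb (adj ν) (ck (e j - e 0))).testBit (ck (e i - e 0)) = true := by
  have h2 : ∀ i j, i ≠ j → (nb (adj ν) (ck (e j - e 0))).testBit (ck (e i - e 0)) = true := fun i j hij => by
    have := adj_ck (k := e i - e 0) (l := e j - e 0) fun e' => he.ne hij (sub_left_injective e')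
    rwa [sub_sub_sub_cancel_right, h i j hij] at this
  refine ⟨fun i hi => ?_, h2⟩
  have := h2 i 0 hi
  rwa [sub_self] at this

theorem core {S : Finset K4} (h6 : S.card ≤ 6) {c1 c2 : K4} (h1 : ∀ k ∈ S, m1 k + c1 ∈ S)
    (h2 : ∀ k ∈ S, m2 k + c2 ∈ S) (hne : ∃ k ∈ S, ∃ l ∈ S, k ≠ l) :
    ∃ e : Fin 6 → K4, Function.Injective e ∧ (∀ k, k ∈ S ↔ ∃ i, e i = k) ∧
      ∃ α β, α ≠ β ∧ ∀ i, fx (e i) = if i.val < 3 then α else β := by
  classical
  let Δ := S.offDiag.image fun p => p.1 - p.2
  have hΔ : Δ.card ≤ S.card * S.card - S.card := Finset.card_image_le.trans (Finset.offDiag_card S).le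
  have key : ∀ k ∈ S, ∀ l ∈ S, k ≠ l → cls (nr (k - l)) ⊆ Δ := fun k hk l hl hkl =>
    cls_subset (D := fun d => ∃ k ∈ S, ∃ l ∈ S, d = k - l)
      (by rintro _ ⟨k, hk, l, hl, rfl⟩; exact ⟨_, h1 k hk, _, h1 l hl, by rw [m1_sub]; simp⟩)
      (by rintro _ ⟨k, hk, l, hl, rfl⟩; exact ⟨_, h2 k hk, _, h2 l hl, by rw [m2_sub]; simp⟩)
      (by rintro _ h ⟨k, hk, l, hl, rfl⟩
          exact Finset.mem_image.mpr ⟨(k, l), Finset.mem_offDiag.mpr ⟨hk, hl, sub_ne_zero.mp h⟩, rfl⟩)
      (sub_ne_zero.mpr hkl) ⟨k, hk, l, hl, rfl⟩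
  obtain ⟨k0, hk0, l0, hl0, hkl⟩ := hne
  have h30 : S.card * S.card - S.card ≤ 30 := by
    generalize S.card = n at h6; interval_cases n <;> omega
  have hν : ∀ k ∈ S, ∀ l ∈ S, k ≠ l → nr (k - l) = nr (k0 - l0) := fun k hk l hl h => by
    by_contra hn
    have := Finset.card_le_card (Finset.union_subset (key k hk l hl h) (key k0 hk0 l0 hl0 hkl))
    rw [Finset.card_union_of_disjoint (by
      exact Finset.disjoint_filter.mpr fun _ _ a b => hn (a.2.symm.trans b.2)), card_cls, card_cls] at this
    split_ifs at this <;> omega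
  have hc := (Finset.card_le_card (key k0 hk0 l0 hl0 hkl)).trans hΔ
  rw [card_cls] at hc
  generalize nr (k0 - l0) = ν at hν hc
  have h := clique_six ν
  rcases eq_or_ne ν 0 with rfl | h0
  · have h4 : 4 ≤ S.card := by
      generalize S.card = n at h6 hc; interval_cases n <;> simp at hc ⊢
    let e : Fin 4 → K4 := fun i => S.equivFin.symm (i.castLE h4)
    have he : Function.Injective e := Subtype.val_injective.comp
      (S.equivFin.symm.injective.comp (Fin.castLE_injective h4))
    obtain ⟨a0, a⟩ := adj_fam he fun i j h => hν _ (Subtype.prop _) _ (Subtype.prop _) (he.ne h)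
    exact absurd (of_nxt (k := e 3 - e 0) (of_nxt (k := e 2 - e 0) (of_nxt (k := e 1 - e 0) clique_zero
      (by simp [a0])) (by simp [a0, a])) (by simp [a0, a])) (by simp)
  have hS : S.card = 6 := by
    rw [if_neg h0] at hc
    generalize S.card = n at h6 hc; interval_cases n <;> simp at hc ⊢
  let e : Fin 6 → K4 := fun i => (S.equivFinOfCardEq hS).symm i
  have he : Function.Injective e := Subtype.val_injective.comp (Equiv.injective _)
  obtain ⟨a0, a⟩ := adj_fam he fun i j h => hν _ (Subtype.prop _) _ (Subtype.prop _) (he.ne h)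
  rw [force_eq] at h
  have := of_nxt (k := e 5 - e 0) (of_nxt (k := e 4 - e 0) (of_nxt (k := e 3 - e 0) (of_nxt (k := e 2 - e 0)
    (of_nxt (k := e 1 - e 0) h (by simp [a0])) (by simp [a0, a])) (by simp [a0, a])) (by simp [a0, a]))
    (by simp [a0, a])
  simp only [force_eq, Bool.or_eq_true, Nat.beq_eq, gC_ck] at this
  obtain ⟨x, y, p1, p2⟩ := pattern _ _ _ _ _ this
  have e1 : ∀ i, ![0, fx (e 1 - e 0), fx (e 2 - e 0), fx (e 3 - e 0), fx (e 4 - e 0), fx (e 5 - e 0)] i =
      fx (e i) - fx (e 0) := fun i => by fin_cases i <;> simp [fx] <;> ring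
  simp only [e1] at p1 p2
  refine ⟨fun i => e ((Equiv.swap 1 x * Equiv.swap 2 y) i), he.comp (Equiv.injective _), fun k => ⟨fun hk => ?_, ?_⟩,
    _, _, fun h => p1 (congrArg (· - fx (e 0)) h), fun i => ?_⟩
  · exact ⟨(Equiv.swap 1 x * Equiv.swap 2 y).symm (S.equivFinOfCardEq hS ⟨k, hk⟩), by simp [e]⟩
  · rintro ⟨i, rfl⟩; exact Subtype.prop _
  · have := p2 i
    split_ifs at this ⊢ <;> exact sub_left_injective this

end CfsgLib.F24T
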