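import Mathlib
import Cfsg.Agent.Lib.Classical.SmallIso
import Cfsg.Agent.Lib.Golay.Mask
import Cfsg.Agent.Lib.Comput.Net
import Cfsg.Agent.Lib.ExtraTwo.Coord

/-!
The unitary space `GF4 ^ 6` over the field with two elements, the four types of vectors, the group `N0`
preserving them, and bit mask codes for vectors and matrices.
-/

set_option autoImplicit false
set_option Elab.async false
set_option maxRecDepth 100000

namespace CfsgLib.F24T

open CfsgLib.Classical CfsgLib.Golay CfsgLib.ExtraTwo QuadraticMap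
open CfsgLib.Comput (force force_eq)

/-- a primitive cube root of unity -/
def w : GF4 := ⟨0, 1⟩

theorem gf4_cases (c : GF4) : c = 0 ∨ c = 1 ∨ c = w ∨ c = w + 1 := by revert c; decide

theorem w_mul_w : w * w = w + 1 := by decide

theorem w_ne_zero : w ≠ 0 := by decide

theorem cube_eq_one {c : GF4} (h : c ≠ 0) : c * c * c = 1 := by revert c; decide

abbrev V0 : Type := Fin 6 → GF4

abbrev GL0 : Type := V0 ≃ₗ[ZMod 2] V0

/-- the norm form of `GF4` -/
noncomputable def n4 : QuadraticForm (ZMod 2) GF4 :=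
  linMulLin (QuadraticAlgebra.reₗ 1 1) (QuadraticAlgebra.reₗ 1 1) +
    linMulLin (QuadraticAlgebra.reₗ 1 1) (QuadraticAlgebra.imₗ 1 1) +
    linMulLin (QuadraticAlgebra.imₗ 1 1) (QuadraticAlgebra.imₗ 1 1)

def nz (x : GF4) : ℕ := if x = 0 then 0 else 1

theorem n4_apply (x : GF4) : n4 x = (nz x : ℕ) := by
  show x.re * x.re + x.re * x.im + x.im * x.im = _
  revert x; decide

/-- the quadratic form -/
noncomputable def q0 : QuadraticForm (ZMod 2) V0 := ∑ i, n4.comp (LinearMap.proj i)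

/-- the weight -/
def wt (v : V0) : ℕ := ∑ i, nz (v i)

theorem q0_sum (v : V0) : q0 v = ∑ i, n4 (v i) := by simp [q0]

theorem q0_apply (v : V0) : q0 v = (wt v : ℕ) := by simp [q0_sum, wt, n4_apply]

/-- the type of a vector: zero, non-singular, short singular, long singular -/
def ty (v : V0) : ℕ :=
  if wt v = 0 then 0 else if wt v % 2 = 1 then 1 else if wt v = 2 ∨ ∏ i, v i = 1 then 2 else 3

theorem wt_eq_zero {v : V0} : wt v = 0 ↔ v = 0 := by
  simp only [wt, Finset.sum_eq_zero_iff, Finset.mem_univ, true_imp_iff, funext_iff, Pi.zero_apply]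
  exact forall_congr' fun i => by simp [nz]

theorem ty_eq_zero {v : V0} : ty v = 0 ↔ v = 0 := by
  rw [← wt_eq_zero, ty]; split_ifs <;> simp [*]

theorem ty_eq_one {v : V0} : ty v = 1 ↔ q0 v = 1 := by
  rw [q0_apply, ZMod.natCast_eq_one_iff_odd, Nat.odd_iff, ty]
  split_ifs <;> simp [*]

theorem ty_cases (v : V0) : ty v = 0 ∨ ty v = 1 ∨ ty v = 2 ∨ ty v = 3 := by
  rw [ty]; split_ifs <;> simp

theorem q0_eq_zero {v : V0} : q0 v = 0 ↔ ty v ≠ 1 := by
  rw [Ne, ty_eq_one, ← zmod2_ne_zero, not_not]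

/-- the group preserving the types -/
def N0 : Subgroup GL0 where
  carrier := {g | ∀ v, ty (g v) = ty v}
  mul_mem' {a b} ha hb v := by rw [LinearEquiv.mul_apply, ha, hb]
  one_mem' _ := rfl
  inv_mem' {a} ha v := by rw [← ha (a⁻¹ v)]; simp

theorem N0_q {g : GL0} (h : g ∈ N0) (v : V0) : q0 (g v) = q0 v :=
  zmod2_eq_of_iff (by rw [q0_eq_zero, q0_eq_zero, h v])

/-- the polar form -/
noncomputable abbrev B0 (u v : V0) : ZMod 2 := polar q0 u v

theorem polar_map {V : Type*} [AddCommGroup V] [Module (ZMod 2) V] {q : QuadraticForm (ZMod 2) V}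
    {g : V → V} (hg : ∀ u v, g (u + v) = g u + g v) (h : ∀ v, q (g v) = q v) (u v : V) :
    polar q (g u) (g v) = polar q u v := by simp only [polar, ← hg, h]

theorem N0_B {g : GL0} (h : g ∈ N0) (u v : V0) : B0 (g u) (g v) = B0 u v :=
  polar_map (map_add g) (N0_q h) u v

theorem N0_B' {g : GL0} (h : g ∈ N0) (u v : V0) : B0 (g u) v = B0 u (g⁻¹ v) := by
  rw [← N0_B h u]; simp

/-- diagonal maps -/
noncomputable def dg (d : Fin 6 → GF4) (hd : ∀ i, d i ≠ 0) : GL0 :=
  LinearEquiv.ofLinearMap (linOfAdd (fun v => d * v) (mul_add d)) (linOfAdd (fun v => d⁻¹ * v) (mul_add _))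
    (LinearMap.ext fun _ => funext fun i => mul_inv_cancel_left₀ (hd i) _)
    (LinearMap.ext fun _ => funext fun i => inv_mul_cancel_left₀ (hd i) _)

theorem dg_apply (d : Fin 6 → GF4) (hd : ∀ i, d i ≠ 0) (v : V0) (i : Fin 6) : dg d hd v i = d i * v i := rfl

/-- multiplication by `w` -/
noncomputable def wS : GL0 := dg (fun _ => w) fun _ => w_ne_zero

theorem wS_apply (v : V0) : wS v = w • v := rfl

/-- additive maps commuting with `w` are linear -/
theorem map_smul4 {V W : Type*} [AddCommGroup V] [Module GF4 V] [AddCommGroup W] [Module GF4 W]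
    {f : V → W} (hf : ∀ u v, f (u + v) = f u + f v) (h : ∀ v, f (w • v) = w • f v) (c : GF4) (v : V) :
    f (c • v) = c • f v := by
  rcases gf4_cases c with rfl | rfl | rfl | rfl
  · simpa using hf 0 0
  · simp
  · exact h v
  · rw [add_smul, add_smul, hf, h, one_smul, one_smul]

/-- the linear elements -/
def Lin : Subgroup GL0 := Subgroup.centralizer {wS}

theorem mem_Lin {g : GL0} : g ∈ Lin ↔ ∀ v, g (w • v) = w • g v := by
  rw [Lin, Subgroup.mem_centralizer_singleton_iff, LinearEquiv.ext_iff]; rfl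

theorem Lin_smul {g : GL0} (h : g ∈ Lin) (c : GF4) (v : V0) : g (c • v) = c • g v :=
  map_smul4 (map_add g) (mem_Lin.mp h) c v

/-! ### codes -/

def f4 (n : ℕ) : GF4 := ⟨(n % 2 : ℕ), (n / 2 % 2 : ℕ)⟩

/-- the vector with a given code -/
def dec (c : ℕ) : V0 := fun i => f4 (c >>> (2 * i.val))

theorem f4_xor (a b : ℕ) : f4 (a ^^^ b) = f4 a + f4 b := by
  ext <;> simp [f4, Nat.xor_div_two, Nat.xor_mod_two_eq]

theorem dec_xor (a b : ℕ) : dec (a ^^^ b) = dec a + dec b :=
  funext fun i => by simp [dec, Nat.shiftRight_xor_distrib, f4_xor]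

theorem dec_zero : dec 0 = 0 := by decide

theorem f4_eq_iff {a b : ℕ} : f4 a = f4 b ↔ a % 4 = b % 4 := by
  have : ∀ n, f4 n = f4 (n % 4) := fun n => by
    rw [f4, f4, show n % 4 % 2 = n % 2 by omega, show n % 4 / 2 % 2 = n / 2 % 2 by omega]
  rw [this a, this b]
  have ha := Nat.mod_lt a (show 0 < 4 by decide)
  have hb := Nat.mod_lt b (show 0 < 4 by decide)
  generalize a % 4 = x at *; generalize b % 4 = y at *
  revert x y; decide

theorem dec_eq_iff {a b : ℕ} : dec a = dec b ↔ a % 4096 = b % 4096 := by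
  simp only [funext_iff, dec, f4_eq_iff, Fin.forall_fin_succ, Nat.shiftRight_eq_div_pow]
  simp; omega

theorem dec_inj {a b : ℕ} (ha : a < 4096) (hb : b < 4096) (h : dec a = dec b) : a = b := by
  have := dec_eq_iff.mp h; omega

theorem dec_mod (a : ℕ) : dec (a % 4096) = dec a := dec_eq_iff.mpr (by omega)

theorem card_V0 : Nat.card V0 = 4096 := by
  rw [Nat.card_eq_fintype_card, Fintype.card_fun, card_GF4]; rfl

theorem exists_dec (v : V0) : ∃ c < 4096, dec c = v := by
  have : Function.Bijective fun c : Fin 4096 => dec c :=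
    (Function.Injective.bijective_of_nat_card_le (fun a b h => Fin.ext (dec_inj a.2 b.2 h))
      (by rw [card_V0]; simp))
  obtain ⟨c, hc⟩ := this.2 v
  exact ⟨c, c.2, hc⟩

theorem forall_dec {P : V0 → Prop} (h : ∀ c < 4096, P (dec c)) (v : V0) : P v := by
  obtain ⟨c, hc, rfl⟩ := exists_dec v; exact h c hc

theorem card_dec (P : V0 → Prop) (f : ℕ → Bool) (h : ∀ c < 4096, P (dec c) ↔ f c = true) :
    Nat.card {v // P v} = cntLT 4096 f := by
  rw [cntLT_eq_card, ← Nat.card_eq_finsetCard]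
  refine (Nat.card_eq_of_bijective (fun c : ((Finset.range 4096).filter fun k => f k = true) =>
    (⟨dec c, (h c (by simpa using (Finset.mem_filter.mp c.2).1)).mpr (Finset.mem_filter.mp c.2).2⟩ :
      {v // P v})) ⟨fun a b e => Subtype.ext (dec_inj (by simpa using (Finset.mem_filter.mp a.2).1)
        (by simpa using (Finset.mem_filter.mp b.2).1) (congrArg Subtype.val e)), ?_⟩).symm
  rintro ⟨v, hv⟩
  obtain ⟨c, hc, rfl⟩ := exists_dec v
  exact ⟨⟨c, Finset.mem_filter.mpr ⟨by simpa using hc, (h c hc).mp hv⟩⟩, rfl⟩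

/-- the table of types -/
def tyTab : ℕ := 0xbdf9ed57f9edbd57edbdf957575757fdf9edbd57edbdf957bdf9ed57575757fdedbdf957bdf9ed57f9edbd57575757fd575757fd575757fd575757fdfdfdfd56f9edbd57edbdf957bdf9ed57575757fdedbdf957bdf9ed57f9edbd57575757fdbdf9ed57f9edbd57edbdf957575757fd575757fd575757fd575757fdfdfdfd56edbdf957bdf9ed57f9edbd57575757fdbdf9ed57f9edbd57edbdf957575757fdf9edbd57edbdf957bdf9ed57575757fd575757fd575757fd575757fdfdfdfd56575757fd575757fd575757fdfdfdfd56575757fd575757fd575757fdfdfdfd56575757fd575757fd575757fdfdfdfd56fdfdfd56fdfdfd56fdfdfd56565656a9f9edbd57edbdf957bdf9ed57575757fdedbdf957bdf9ed57f9edbd57575757fdbdf9ed57f9edbd57edbdf957575757fd575757fd575757fd575757fdfdfdfd56edbdf957bdf9ed57f9edbd57575757fdbdf9ed57f9edbd57edbdf957575757fdf9edbd57edbdf957bdf9ed57575757fd575757fd575757fd575757fdfdfdfd56bdf9ed57f9edbd57edbdf957575757fdf9edbd57edbdf957bdf9ed57575757fdedbdf957bdf9ed57f9edbd57575757fd575757fd575757fd575757fdfdfdfd56575757fd575757fd575757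fdfdfdfd56575757fd575757fd575757fdfdfdfd56575757fd575757fd575757fdfdfdfd56fdfdfd56fdfdfd56fdfdfd56565656a9edbdf957bdf9ed57f9edbd57575757fdbdf9ed57f9edbd57edbdf957575757fdf9edbd57edbdf957bdf9ed57575757fd575757fd575757fd575757fdfdfdfd56bdf9ed57f9edbd57edbdf957575757fdf9edbd57edbdf957bdf9ed57575757fdedbdf957bdf9ed57f9edbd57575757fd575757fd575757fd575757fdfdfdfd56f9edbd57edbdf957bdf9ed57575757fdedbdf957bdf9ed57f9edbd57575757fdbdf9ed57f9edbd57edbdf957575757fd575757fd575757fd575757fdfdfdfd56575757fd575757fd575757fdfdfdfd56575757fd575757fd575757fdfdfdfd56575757fd575757fd575757fdfdfdfd56fdfdfd56fdfdfd56fdfdfd56565656a9575757fd575757fd575757fdfdfdfd56575757fd575757fd575757fdfdfdfd56575757fd575757fd575757fdfdfdfd56fdfdfd56fdfdfd56fdfdfd56565656a9575757fd575757fd575757fdfdfdfd56575757fd575757fd575757fdfdfdfd56575757fd575757fd575757fdfdfdfd56fdfdfd56fdfdfd56fdfdfd56565656a9575757fd575757fd575757fdfdfdfd56575757fd575757fd575757fdfdfdfd56575757fd575757fd575757fdfdfdfd56fdfdfd56fdfdfd56fdfdfd56565656a9fdfdfd56fdfdfd56fdfdfd56565656a9fdfdfd56fdfdfd56fdfdfd56565656a9fdfdfd56fdfdfd56fdfdfd56565656a9565656a9565656a9565656a9a9a9a954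

/-- the type of the vector with code `c` -/
def tyC (c : ℕ) : ℕ := Nat.land (Nat.shiftRight tyTab (Nat.mul 2 (Nat.land c 4095))) 3

theorem land_4095 (m : ℕ) : Nat.land m 4095 = m % 4096 := Nat.and_two_pow_sub_one_eq_mod m 12

theorem ty_check : allLT 4096 (fun c => Nat.beq (ty (dec c)) (tyC c)) = true := by decide +kernel

theorem ty_dec (c : ℕ) : ty (dec c) = tyC c := by
  rw [← dec_mod, Nat.eq_of_beq_eq_true (of_allLT ty_check (Nat.mod_lt _ (by decide))), tyC, tyC,
    land_4095, land_4095, Nat.mod_mod]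

end CfsgLib.F24T
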